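import Cfsg.Agent.Lib.W8.Chain

/-! An automorphism of `L0` fixing the diagonal group is induced by a diagonal element. -/

set_option autoImplicit false

namespace Cfsg.Lib.W8

open Matrix
open scoped Pointwise symmDiff

theorem ab_hh (σ : P8) : pE σ * rf hh = rf hh * pE σ := by
  rw [← mul_inv_eq_iff_eq_mul, rf_conj _ hh_root, mat_pE, ba_pm, permMatrix_mulVec]; rfl

theorem ab_sr (i j : Fin 8) (a : i.1 ≤ 5) (b : j.1 = i.1 + 1) : sr i = pE (Equiv.swap i j) := mat_inj (by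
  rw [sr, mat_rf (al_root i), mat_pE]; revert i j; decide +kernel)

theorem ab_sr6 : sr 6 = sE {6, 7} * pE (Equiv.swap 6 7) := mat_inj (by
  rw [sr, mat_rf (al_root _), mat_mul, mat_pE, mat_sE (by decide)]; decide +kernel)

theorem ab_sr7 : sr 7 = sE {0, 1, 2, 3, 4, 7} * rf hh * (sE {0, 1, 2, 3, 4, 7})⁻¹ := by
  rw [rf_conj _ hh_root, mat_sE (by decide), sr]
  exact congrArg rf (by decide +kernel)

theorem ab_gen (H : Subgroup W) (h1 : ∀ c : F8, Even c.card → sE c ∈ H)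
    (h2 : ∀ σ : P8, Equiv.Perm.sign σ = 1 → pE σ ∈ H) (h3 : rf hh * pE (Equiv.swap 0 1) ∈ H) :
    L0 ≤ H := by
  have k := ab_sr
  have k0 := k 0 1 (by decide) rfl
  have e2 : Even ({6, 7} : F8).card := by decide
  have e6 : Even ({0, 1, 2, 3, 4, 7} : F8).card := by decide
  have k6 := ab_sr6
  have k7 := ab_sr7
  have cE : ∀ c : F8, Even c.card → pE (Equiv.swap 0 1) * sE c * (pE (Equiv.swap 0 1))⁻¹ ∈ H := fun c hc => by
    rw [pE_conj _ hc]; exact h1 _ (by rwa [card_smul8])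
  have main : ∀ i, sr 0 * sr i ∈ H := fun i => by
    by_cases a : i.1 ≤ 5
    · obtain ⟨j, hj⟩ : ∃ j : Fin 8, j.1 = i.1 + 1 := ⟨⟨i.1 + 1, by omega⟩, rfl⟩
      rw [k0, k i j a hj, pE_mul]
      exact h2 _ (by simp [Equiv.Perm.sign_swap (show i ≠ j by omega)])
    obtain rfl | rfl : i = 6 ∨ i = 7 := by omega
    · have := mul_mem (cE _ e2) (h2 (Equiv.swap 0 1 * Equiv.swap 6 7) (by simp))
      rw [← pE_mul] at this
      simpa only [k0, k6, mul_assoc, inv_mul_cancel_left] using this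
    · have := mul_mem (mul_mem (cE _ e6) h3) (inv_mem (h1 _ e6))
      rw [← ab_hh] at this
      simpa only [k0, k7, mul_assoc, inv_mul_cancel_left] using this
  intro g hg
  have : Subgroup.closure (Set.range rr) ≤ H.comap L0.subtype := (Subgroup.closure_le _).2 (by
    rintro _ ⟨i, rfl⟩
    exact Subgroup.mem_comap.2 (main i))
  rw [gen_L0] at this
  exact this (Subgroup.mem_top (⟨g, hg⟩ : L0))

/-- the alternating group inside `L0` -/
noncomputable def abP : alternatingGroup (Fin 8) →* L0 where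
  toFun σ := ⟨pE σ, pE_mem.2 σ.2⟩
  map_one' := Subtype.ext pE_one
  map_mul' _ _ := Subtype.ext (pE_mul _ _).symm

theorem ab_two {i j : Fin 8} (h : i ≠ j) : ∃ σ : alternatingGroup (Fin 8), σ.1 0 = i ∧ σ.1 1 = j := by
  obtain ⟨τ, h0, h1⟩ : ∃ τ : P8, τ 0 = i ∧ τ 1 = j :=
    ⟨Equiv.swap (Equiv.swap 0 i 1) j * Equiv.swap 0 i, by revert i j; decide, by simp⟩
  rcases Int.units_eq_one_or τ.sign with e | e
  · exact ⟨⟨τ, e⟩, h0, h1⟩
  · exact ⟨⟨τ * Equiv.swap 2 3, by simp [e]⟩, by simpa [Equiv.swap_apply_of_ne_of_ne] using h0,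
      by simpa [Equiv.swap_apply_of_ne_of_ne] using h1⟩

/-- a sign cocycle on `A₈` is a coboundary -/
theorem ab_cocycle (s : alternatingGroup (Fin 8) → Fin 8 → ℚ) (h1 : ∀ σ i, s σ i * s σ i = 1)
    (h2 : ∀ σ τ i, s (σ * τ) i = s σ (τ.1 i) * s τ i) : ∃ D : F8, ∀ σ i, s σ i = sgn D (σ.1 i) * sgn D i := by
  have one : ∀ i, s 1 i = 1 := fun i => by simpa [h1] using h2 1 1 i
  have fix : ∀ σ : alternatingGroup (Fin 8), σ.1 0 = 0 → s σ 0 = 1 := by
    have f0 : ∀ τ : Equiv.Perm {x : Fin 8 // x ≠ 0}, Equiv.Perm.ofSubtype τ 0 = 0 := fun τ =>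
      Equiv.Perm.ofSubtype_apply_of_not_mem τ (by simp)
    have k : ∀ τ ∈ Subgroup.closure {τ : Equiv.Perm {x : Fin 8 // x ≠ 0} | τ.IsThreeCycle},
        ∃ h : Equiv.Perm.ofSubtype τ ∈ alternatingGroup (Fin 8), s ⟨_, h⟩ 0 = 1 := fun τ hτ => by
      induction hτ using Subgroup.closure_induction with
      | mem τ hτ =>
        have h : Equiv.Perm.ofSubtype τ ∈ alternatingGroup (Fin 8) := by simp [hτ.sign]
        have e : (⟨_, h⟩ * (⟨_, h⟩ * ⟨_, h⟩) : alternatingGroup (Fin 8)) = 1 := Subtype.ext (by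
          have := pow_orderOf_eq_one τ
          rw [hτ.orderOf, pow_three] at this
          simp [← map_mul, this])
        have := one 0
        rw [← e, h2, h2] at this
        exact ⟨h, by simpa [f0, h1] using this⟩
      | one => exact ⟨by simp, by convert one 0; simp⟩
      | mul x y _ _ hx hy =>
        obtain ⟨a, ha⟩ := hx
        obtain ⟨b, hb⟩ := hy
        refine ⟨by simpa using mul_mem a b, ?_⟩
        have := h2 ⟨_, a⟩ ⟨_, b⟩ 0
        simp only [f0, ha, hb, one_mul] at this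
        simpa using this
      | inv x _ hx =>
        obtain ⟨a, ha⟩ := hx
        refine ⟨by simpa using a, ?_⟩
        have := h2 ⟨_, a⟩⁻¹ ⟨_, a⟩ 0
        simp only [f0, ha, mul_one, inv_mul_cancel, one] at this
        convert this.symm
        simp
    intro σ h0
    have p : ∀ x, σ.1 x ≠ 0 ↔ x ≠ 0 := fun x => by rw [← h0, σ.1.injective.ne_iff, h0]
    have e := Equiv.Perm.ofSubtype_subtypePerm (p := fun x => x ≠ 0) p fun x hx (e : x = 0) => hx (by rw [e, h0])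
    obtain ⟨h, k⟩ := k (σ.1.subtypePerm p) (by
      rw [Equiv.Perm.closure_three_cycles_eq_alternating, Equiv.Perm.mem_alternatingGroup, ← Equiv.Perm.sign_ofSubtype]
      convert σ.2 using 1
      rw [Equiv.Perm.mem_alternatingGroup, e])
    simpa [e] using k
  choose t ht using fun j : Fin 8 => show ∃ σ : alternatingGroup (Fin 8), σ.1 0 = j from
    let ⟨σ, h, _⟩ := ab_two (show j ≠ j + 1 by revert j; decide); ⟨σ, h⟩
  have sg : ∀ j, sgn (Finset.univ.filter fun j => s (t j) 0 < 0) j = s (t j) 0 := fun j => by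
    rcases mul_self_eq_one_iff.1 (h1 (t j) 0) with e | e <;> simp [sgn, e]
  refine ⟨Finset.univ.filter fun j => s (t j) 0 < 0, fun σ i => ?_⟩
  rw [sg, sg]
  have e1 := h2 (t (σ.1 i)) ((t (σ.1 i))⁻¹ * (σ * t i)) 0
  have e2 : ((t (σ.1 i))⁻¹ * (σ * t i)).1 0 = 0 := by simp [ht, Equiv.symm_apply_eq, Equiv.Perm.inv_def]
  rw [mul_inv_cancel_left, h2, e2, fix _ e2, ht, mul_one] at e1
  rw [← e1, mul_assoc, h1, mul_one]

theorem ab_fix (φ : L0 ≃* L0) (h : ∀ c : F8, Even c.card → (φ ⟨sE c, sE_mem c⟩ : W) = sE c) :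
    ∃ w : W, ∀ x : L0, (φ x : W) = w * x * w⁻¹ := by
  have hd : ∀ σ, ∃ d : F8, mat (φ (abP σ)) = pm σ.1 * diagonal (sgn d) := fun σ => by
    obtain ⟨d, hd, e⟩ := cent_E (g := (pE σ.1)⁻¹ * φ (abP σ)) fun c hc => by
      have hc' : Even (σ.1 • c).card := (card_smul8 _ c).symm ▸ hc
      have e1 : abP σ * ⟨sE c, sE_mem c⟩ = ⟨sE (σ.1 • c), sE_mem _⟩ * abP σ :=
        Subtype.ext (mul_inv_eq_iff_eq_mul.1 (pE_conj σ.1 hc))
      have e2 := congrArg (fun x => (φ x : W)) e1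
      simp only [map_mul, Subgroup.coe_mul, h c hc, h _ hc'] at e2
      show _ * _ = _ * _
      rw [mul_assoc, e2, ← pE_conj σ.1 hc]; group
    exact ⟨d, by rw [← mat_sE hd, ← e, ← mat_pE, ← mat_mul, mul_inv_cancel_left]⟩
  choose d hd using hd
  obtain ⟨D, hD⟩ := ab_cocycle (fun σ => sgn (d σ)) (fun σ => ba_sgn_sq _) fun σ τ i => by
    have := congrFun (congrFun (hd (σ * τ)) ((σ * τ).1 i)) i
    rw [map_mul, map_mul, Subgroup.coe_mul, mat_mul, hd, hd, ← Matrix.mul_assoc, mul_diagonal, mul_diagonal,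
      mul_apply, Finset.sum_eq_single (τ.1 i) (fun j _ a => by simp [pm, a]) (by simp)] at this
    simpa [pm] using this.symm
  obtain ⟨Δ, hΔ⟩ : ∃ Δ, Δ = diagonal (sgn D) := ⟨_, rfl⟩
  have ΔΔ : Δ * Δ = 1 := by rw [hΔ, diagonal_mul_diagonal, ← diagonal_one]; simp only [ba_sgn_sq]
  obtain ⟨ψ, hψ⟩ : ∃ ψ : L0 → M8, ∀ x, ψ x = Δ * mat (φ x) * Δ := ⟨_, fun _ => rfl⟩
  have ψm : ∀ x y, ψ (x * y) = ψ x * ψ y := fun x y => by
    simp only [hψ, map_mul, Subgroup.coe_mul, mat_mul, Matrix.mul_assoc, ← Matrix.mul_assoc Δ Δ, ΔΔ, Matrix.one_mul]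
  have ψ1 : ψ 1 = 1 := by simp [hψ, mat_one, ΔΔ]
  have ψP : ∀ σ, ψ (abP σ) = pm σ.1 := fun σ => Matrix.ext fun i j => by
    rw [hψ, hd, hΔ, mul_diagonal, diagonal_mul, mul_diagonal, hD]
    by_cases e : i = σ.1 j
    · subst e; simp only [pm, of_apply, if_true, one_mul]
      rw [← mul_assoc, ba_sgn_sq, one_mul, ba_sgn_sq]
    · simp [pm, e]
  have ψE : ∀ c : F8, Even c.card → ψ ⟨sE c, sE_mem c⟩ = diagonal (sgn c) := fun c hc => by
    rw [hψ, h c hc, mat_sE hc, hΔ, diagonal_mul_diagonal, diagonal_mul_diagonal]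
    congr 1; ext i; rw [mul_right_comm, ba_sgn_sq, one_mul]
  have pmm : ∀ σ τ : P8, pm σ * pm τ = pm (σ * τ) := fun σ τ => by rw [← mat_pE, ← mat_pE, ← mat_mul, pE_mul, mat_pE]
  have p01 : pE (Equiv.swap 0 1) ∉ L0 := by simp [pE_mem]
  obtain ⟨y, hy⟩ : ∃ y : L0, y.1 = rf hh * pE (Equiv.swap 0 1) := ⟨⟨_, mul_mem_L0 (rf_not_mem hh_root) p01⟩, rfl⟩
  obtain ⟨S, hS⟩ : ∃ S, S = ψ y * pm (Equiv.swap 0 1) := ⟨_, rfl⟩
  have cS : ∀ (σ : alternatingGroup (Fin 8)) i j, S (σ.1 i) (σ.1 j) = S i j := fun σ i j => by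
    have e1 : abP σ * y = y * abP ⟨Equiv.swap 0 1 * σ.1 * Equiv.swap 0 1, by
      simpa using Equiv.Perm.mem_alternatingGroup.1 σ.2⟩ := Subtype.ext (by
      show pE _ * _ = _ * pE _
      rw [hy, ← mul_assoc, ab_hh, mul_assoc, mul_assoc, pE_mul, pE_mul, ← mul_assoc, ← mul_assoc]; simp)
    have e2 : pm σ.1 * S = S * pm σ.1 := by
      rw [hS, ← Matrix.mul_assoc, Matrix.mul_assoc (ψ y), pmm, ← ψP, ← ψm, e1, ψm, ψP, Matrix.mul_assoc, pmm]
      simp [mul_assoc]
    have := congrFun (congrFun e2 (σ.1 i)) j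
    rw [mul_apply, mul_apply, Finset.sum_eq_single i (fun k _ a => by simp [pm, a.symm]) (by simp),
      Finset.sum_eq_single (σ.1 j) (fun k _ a => by simp [pm, a]) (by simp)] at this
    simpa [pm] using this.symm
  have hS' : S = Matrix.of fun i j => if i = j then S 0 0 else S 0 1 := Matrix.ext fun i j => by
    rw [of_apply]
    split_ifs with e
    · obtain ⟨σ, a, -⟩ := ab_two ((by decide : ∀ j : Fin 8, j ≠ j + 1) j)
      rw [e, ← a, cS]
    · obtain ⟨σ, a, b⟩ := ab_two e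
      rw [← a, ← b, cS]
  have oS : Sᵀ * S = 1 := by
    have : Δᵀ = Δ := by rw [hΔ, diagonal_transpose]
    simp only [hS, hψ, transpose_mul, this, Matrix.mul_assoc, ← Matrix.mul_assoc Δ Δ, ΔΔ, Matrix.one_mul,
      ← Matrix.mul_assoc (mat (φ y))ᵀ, (good_mat _).1]
    exact (mat_pE _ ▸ good_mat (pE _)).1
  have dS : S.det = -1 := by
    have := congrArg det ΔΔ
    rw [hS, hψ, det_mul, det_mul, det_mul, mem_L0.1 (φ y).2, mul_one, ← det_mul, ΔΔ, ← mat_pE,
      (det_cases _).resolve_left p01]; simp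
  generalize S 0 0 = a, S 0 1 = b at hS'
  have o1 := congrFun (congrFun oS 0) 0
  have o2 := congrFun (congrFun oS 0) 1
  simp [hS', mul_apply, Fin.sum_univ_eight] at o1 o2
  have e01 : Even ({0, 1} : F8).card := by decide
  have sy : ψ y = S * pm (Equiv.swap 0 1) := by rw [hS, Matrix.mul_assoc, pmm]; simp [← mat_pE, pE_one, mat_one]
  have hR : S = mat (rf hh) := by
    rcases mul_eq_zero.1 (show b * (a + 3 * b) = 0 by linear_combination o2 / 2) with e | e
    · have : S = a • (1 : M8) := by rw [hS', e]; ext i j; simp [one_apply]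
      rw [this, det_smul] at dS
      have : a ^ 2 = 1 := by rw [e] at o1; linear_combination o1
      simp [show a ^ 8 = (a ^ 2) ^ 4 by ring, this] at dS; norm_num at dS
    obtain rfl : a = -3 * b := by linarith
    rcases mul_eq_zero.1 (show (b - 1 / 4) * (b + 1 / 4) = 0 by linear_combination o1 / 16) with f | f
    · obtain rfl : b = 1 / 4 := by linarith
      have e1 : y * ⟨sE {0, 1}, sE_mem _⟩ * (y * ⟨sE {0, 1}, sE_mem _⟩) * (y * ⟨sE {0, 1}, sE_mem _⟩) = 1 :=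
        Subtype.ext (mat_inj (by
          simp only [Subgroup.coe_mul, mat_mul, hy, mat_rf hh_root, mat_pE, mat_sE e01, Subgroup.coe_one, mat_one]
          decide +kernel))
      have := congrArg ψ e1
      simp only [ψm, ψ1, ψE _ e01, sy, hS'] at this
      exact absurd this (by decide +kernel)
    · obtain rfl : b = -1 / 4 := by linarith
      rw [hS', mat_rf hh_root]; decide +kernel
  have back : ∀ x, mat (φ x) = Δ * ψ x * Δ := fun x => by
    simp only [hψ, Matrix.mul_assoc, ← Matrix.mul_assoc Δ Δ, ΔΔ, Matrix.one_mul, Matrix.mul_one]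
  have ev : Even D.card := by
    have r : IsRoot (Δ *ᵥ fun i => if i = 0 ∨ i = 1 then 1 else 0) := by
      refine .inl ⟨0, 1, by decide, ?_, ?_, fun k a b => ?_⟩ <;> simp only [hΔ, mulVec_diagonal, sgn]
      · by_cases (0 : Fin 8) ∈ D <;> simp [*]
      · by_cases (1 : Fin 8) ∈ D <;> simp [*]
      · simp [*]
    have := root_mat (φ y) r
    rw [back, mulVec_mulVec, Matrix.mul_assoc, ΔΔ, Matrix.mul_one, ← mulVec_mulVec, sy, hR, mat_rf hh_root,
      show ((1 - vecMulVec hh hh) * pm (Equiv.swap 0 1)) *ᵥ (fun i => if i = 0 ∨ i = 1 then 1 else 0) =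
        fun i => if i = 0 ∨ i = 1 then 1 / 2 else -1 / 2 by decide +kernel] at this
    rcases this with ⟨i, j, -, hi, -⟩ | ⟨-, hi⟩
    · simp only [hΔ, mulVec_diagonal, sgn] at hi
      split_ifs at hi <;> norm_num at hi
    · simp only [hΔ, mulVec_diagonal, Finset.prod_mul_distrib, ba_prod_sgn] at hi
      by_contra e
      rw [(Nat.not_even_iff_odd.1 e).neg_one_pow] at hi
      exact absurd hi (by decide +kernel)
  have fin : ∀ x : L0, ψ x = mat x → (φ x : W) = sE D * x * (sE D)⁻¹ := fun x e => mat_inj (by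
    rw [back, e, mat_mul, mat_mul, mat_inv, mat_sE ev, diagonal_transpose, hΔ])
  refine ⟨sE D, fun x => ?_⟩
  obtain ⟨x', e1, e2⟩ := ab_gen ((MonoidHom.eqLocus (L0.subtype.comp φ.toMonoidHom)
    ((MulAut.conj (sE D)).toMonoidHom.comp L0.subtype)).map L0.subtype)
    (fun c hc => ⟨⟨sE c, sE_mem c⟩, fin _ (by rw [ψE c hc, mat_sE hc]), rfl⟩)
    (fun σ hσ => ⟨abP ⟨σ, hσ⟩, fin _ (by rw [ψP]; exact (mat_pE σ).symm), rfl⟩)
    ⟨y, fin _ (by rw [sy, hR, hy, mat_mul, mat_pE]), hy⟩ x.2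
  exact Subtype.ext e2 ▸ e1

end Cfsg.Lib.W8
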