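import Cfsg.Agent.Lib.W8.BasB

/-! Proofs of `monF`, `norm_F`, `pF_mem` from the earlier lemmas of `BasB`. -/

set_option autoImplicit false

namespace Cfsg.Lib.W8

open Matrix
open scoped Pointwise symmDiff

variable {a x y : V} {g h w : W} {c d : F8} {σ τ : P8}

theorem bm_dot_fr (y : V) (l : Fin 8) : (Hm *ᵥ y) ⬝ᵥ fr l = 2 * y l := by
  have k : ∀ x : V, (Hm *ᵥ y) ⬝ᵥ x = ∑ l, y l * (x ⬝ᵥ fr l) := fun x => by
    simp only [dotProduct, mulVec, fr, Finset.sum_mul, Finset.mul_sum]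
    rw [Finset.sum_comm]
    exact Finset.sum_congr rfl fun l _ => Finset.sum_congr rfl fun i _ => by ring
  rw [k, Finset.sum_eq_single l (fun m _ e => by rw [fr_dot, if_neg (Ne.symm e), mul_zero]) (by simp),
    fr_dot, if_pos rfl, mul_comm]

theorem bm_cases (hx : IsRoot x) : (∃ i, x = fr i ∨ x = -fr i) ∨
    ∃ c, Pl c ∧ ∀ i, (i ∈ c → x ⬝ᵥ fr i = 1 ∨ x ⬝ᵥ fr i = -1) ∧ (i ∉ c → x ⬝ᵥ fr i = 0) := by
  have e : Hm *ᵥ ((1 / 2 : ℚ) • Hm *ᵥ x) = x := by
    rw [mulVec_smul, mulVec_mulVec, Hm_mul_Hm, smul_mulVec, one_mulVec, smul_smul]; norm_num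
  generalize (1 / 2 : ℚ) • Hm *ᵥ x = y at e
  subst e
  have k : ∀ i, Hm *ᵥ Pi.single i 1 = fr i := fun i => by ext j; simp [fr]
  rcases (isRoot_frame y).1 hx with ⟨i, rfl | rfl⟩ | ⟨c, h1, h2⟩
  · exact .inl ⟨i, .inl (k i)⟩
  · exact .inl ⟨i, .inr (by rw [mulVec_neg, k])⟩
  · refine .inr ⟨c, h1, fun i => ⟨fun hi => ?_, fun hi => ?_⟩⟩
    · rw [bm_dot_fr]
      rcases (h2 i).1 hi with e | e <;> rw [e] <;> norm_num
    · rw [bm_dot_fr, (h2 i).2 hi, mul_zero]

theorem bm_pF_mem (hσ : σ ∈ AG) : pF σ ∈ L0 := by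
  have h1 : (pm σ).det = 1 := by rw [← mat_pE]; exact pE_mem.2 (AG_sign hσ)
  have h2 := congrArg det Hm_mul_Hm
  rw [det_mul, det_smul, det_one] at h2
  rw [mem_L0, mat_pF hσ, det_smul, det_mul, det_mul, h1, mul_one, h2]
  norm_num

theorem bm_monF (e : ∀ i, ∃ j, mat g *ᵥ fr i = fr j ∨ mat g *ᵥ fr i = -fr j) :
    ∃ d : F8, ∃ σ ∈ AG, g = sF d * pF σ := by
  choose f hf using e
  have fi : Function.Injective f := fun i j e => by
    by_contra ij
    have := dot_mat g (fr i) (fr j)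
    rw [fr_dot, if_neg ij] at this
    rcases hf i with e1 | e1 <;> rcases hf j with e2 | e2 <;> rw [e1, e2, e] at this <;> simp [fr_dot] at this
  obtain ⟨σ, rfl⟩ : ∃ σ : P8, ⇑σ = f := ⟨Equiv.ofBijective f (Finite.injective_iff_bijective.1 fi), rfl⟩
  have k : ∀ c, Pl c → Pl (σ • c) := fun c hc => by
    have h1 := root_mat g ((isRoot_frame fun l => if l ∈ c then 1 / 2 else 0).2
      (.inr ⟨_, hc, fun l => ⟨fun h => .inl (if_pos h), fun h => if_neg h⟩⟩))
    have h3 : ∀ j ∈ c, (mat g *ᵥ Hm *ᵥ fun l => if l ∈ c then (1 / 2 : ℚ) else 0) ⬝ᵥ fr (σ j) = 1 ∨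
        (mat g *ᵥ Hm *ᵥ fun l => if l ∈ c then (1 / 2 : ℚ) else 0) ⬝ᵥ fr (σ j) = -1 := fun j hj => by
      have := dot_mat g (Hm *ᵥ fun l => if l ∈ c then (1 / 2 : ℚ) else 0) (fr j)
      rw [bm_dot_fr, if_pos hj] at this
      rcases hf j with e | e <;> rw [e] at this
      · left; rw [this]; norm_num
      · right; rw [dotProduct_neg] at this; linarith
    generalize (mat g *ᵥ Hm *ᵥ fun l => if l ∈ c then (1 / 2 : ℚ) else 0) = x at h1 h3
    rcases bm_cases h1 with ⟨i, e⟩ | ⟨c', c1, c2⟩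
    · exfalso
      obtain ⟨j, hj⟩ := Finset.card_pos.1 (show 0 < c.card by rw [hc.card]; norm_num)
      have := h3 j hj
      rcases e with rfl | rfl <;> simp only [neg_dotProduct, fr_dot] at this <;> split_ifs at this <;>
        norm_num at this
    · have e : σ • c = c' := Finset.eq_of_subset_of_card_le (fun l hl => by
        obtain ⟨j, hj, rfl⟩ := Finset.mem_smul_finset.1 hl
        by_contra h
        have := h3 j hj
        rw [(c2 (σ j)).2 h] at this
        norm_num at this) (by rw [card_smul8, c1.card, hc.card])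
      rwa [e]
  have hσ : σ ∈ AG := fun c => ⟨k c, fun h => by
    have : ∀ n : ℕ, Pl (σ ^ n • σ • c) := fun n => by
      induction n with
      | zero => simpa using h
      | succ n ih => rw [pow_succ', mul_smul]; exact k _ ih
    have := this (orderOf σ - 1)
    rwa [← mul_smul, ← pow_succ, Nat.sub_add_cancel (orderOf_pos σ), pow_orderOf_eq_one, one_smul] at this⟩
  refine ⟨Finset.univ.filter fun j => mat g *ᵥ fr (σ⁻¹ j) ≠ fr j, σ, hσ, ext_fr fun i => ?_⟩
  rw [mat_mul, ← mulVec_mulVec, pF_fr hσ, sF_fr, sgn]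
  by_cases h : mat g *ᵥ fr i = fr (σ i)
  · rw [if_neg (by simpa using h), one_smul, h]
  · rw [if_pos (by simpa using h), (hf i).resolve_left h, neg_smul, one_smul]

theorem bm_norm_F (e : ∀ c : F8, Even c.card → ∃ d, g * sF c * g⁻¹ = sF d) :
    ∃ d : F8, ∃ σ ∈ AG, g = sF d * pF σ := by
  refine bm_monF fun i => ?_
  obtain ⟨j, ij⟩ := exists_ne i
  have hc : ({i, j} : F8).card = 2 := Finset.card_pair ij.symm
  obtain ⟨d, hd⟩ := e {i, j} (by rw [hc]; decide)
  have h1 := tr_conj g (sF {i, j})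
  rw [hd, tr_sF, tr_sF, hc] at h1
  have h2 : d.card = 2 := by exact_mod_cast (by push_cast at h1; linarith : (d.card : ℚ) = 2)
  have h3 : mat (sF d) *ᵥ (mat g *ᵥ fr i) = -(mat g *ᵥ fr i) := by
    rw [mulVec_mulVec, ← mat_mul, ← hd, inv_mul_cancel_right, mat_mul, ← mulVec_mulVec, sF_fr, sgn,
      if_pos (by simp), neg_smul, one_smul, mulVec_neg]
  rcases bm_cases (root_mat g (fr_root i)) with h | ⟨c, c1, c2⟩
  · exact h
  · exfalso
    have : c ⊆ d := fun l hl => by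
      by_contra h
      have := dot_mat (sF d) (mat g *ᵥ fr i) (fr l)
      rw [h3, sF_fr, sgn, if_neg h, one_smul, neg_dotProduct] at this
      rcases (c2 l).1 hl with e | e <;> rw [e] at this <;> norm_num at this
    have := Finset.card_le_card this
    rw [c1.card, h2] at this
    omega

end Cfsg.Lib.W8
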