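import Cfsg.Agent.Lib.W8.IdW

/-! The easy parts of `Chain`. -/

set_option autoImplicit false

namespace Cfsg.Lib.W8

open Matrix

theorem cb_idS (i : Fin 8) : idS i = sr i := by fin_cases i <;> rfl

theorem cb_sr_cox (i j : Fin 8) : (sr i * sr j) ^ cox i j = 1 := by
  have := (show ∀ i j : Fin 8, IdC [i.1, j.1] (cox i j) 1 by decide +kernel) i j
  simpa [idW, cb_idS] using this.one

theorem cb_gen_L0 (gen : Subgroup.closure (Set.range sr) = ⊤) (rr : Fin 8 → L0) (hr : ∀ i, (rr i : W) = sr 0 * sr i) :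
    Subgroup.closure (Set.range rr) = ⊤ := by
  let H := (Subgroup.closure (Set.range rr)).map L0.subtype
  have sq : ∀ i, sr i * sr i = 1 := fun i => rf_sq _
  have iv : ∀ i, (sr i)⁻¹ = sr i := fun i => inv_eq_of_mul_eq_one_right (sq i)
  have hH : ∀ i, sr 0 * sr i ∈ H := fun i => ⟨rr i, Subgroup.subset_closure ⟨i, rfl⟩, hr i⟩
  have st : ∀ i g, g ∈ H ∨ sr 0 * g ∈ H → sr i * g ∈ H ∨ sr 0 * (sr i * g) ∈ H := by
    rintro i g (h | h)
    · exact .inr (by rw [← mul_assoc]; exact mul_mem (hH i) h)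
    · exact .inl (by simpa [iv, mul_assoc, ← mul_assoc (sr 0), sq] using mul_mem (inv_mem (hH i)) h)
  have key : ∀ g : W, g ∈ H ∨ sr 0 * g ∈ H := fun g => by
    have hg : g ∈ Subgroup.closure (Set.range sr) := gen ▸ Subgroup.mem_top g
    induction hg using Subgroup.closure_induction_left with
    | one => exact .inl (one_mem _)
    | mul_left x hx y _ h => obtain ⟨i, rfl⟩ := hx; exact st i y h
    | inv_mul_cancel x hx y _ h => obtain ⟨i, rfl⟩ := hx; rw [iv]; exact st i y h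
  refine eq_top_iff.2 fun g _ => ?_
  rcases key g with ⟨x, hx, e⟩ | ⟨x, -, e⟩
  · exact Subtype.ext e ▸ hx
  · exact (rf_not_mem (al_root 0) ((mul_mem_cancel_right g.2).1 (show sr 0 * g ∈ L0 from e ▸ x.2))).elim

universe u

theorem cb_univ_alt (gen : Subgroup.closure (Set.range sr) = ⊤)
    (uc : ∀ {Γ : Type u} [Group Γ] (t : Fin 8 → Γ), (∀ i j, (t i * t j) ^ cox i j = 1) →
      ∃ f : W →* Γ, ∀ i, f (sr i) = t i) (rr : Fin 8 → L0) (hr : ∀ i, (rr i : W) = sr 0 * sr i)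
    {Γ : Type u} [Group Γ] (ρ : Fin 8 → Γ) (h0 : ρ 0 = 1) (h : ∀ i j, ((ρ i)⁻¹ * ρ j) ^ cox i j = 1) :
    ∃ f : L0 →* Γ, ∀ i, f (rr i) = ρ i := by
  let ι : Γ × Γ →* Equiv.Perm (Γ ⊕ Γ) := (Equiv.Perm.sumCongrHom Γ Γ).comp
    ((MulAction.toPermHom Γ Γ).prodMap (MulAction.toPermHom Γ Γ))
  have hι : Function.Injective ι := Equiv.Perm.sumCongrHom_injective.comp
    (MulAction.toPerm_injective.prodMap MulAction.toPerm_injective)
  let t : Fin 8 → Equiv.Perm (Γ ⊕ Γ) := fun i => Equiv.sumComm Γ Γ * ι (ρ i, (ρ i)⁻¹)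
  have tt : ∀ i j, t i * t j = ι ((ρ i)⁻¹ * ρ j, ρ i * (ρ j)⁻¹) := fun i j => by
    ext (x | x) <;> simp [t, ι, mul_assoc]
  obtain ⟨f, hf⟩ := uc t fun i j => by
    rw [tt, ← map_pow, Prod.pow_mk, h, show ρ i * (ρ j)⁻¹ = ρ j * ((ρ j)⁻¹ * ρ i) * (ρ j)⁻¹ by group, conj_pow,
      show cox i j = cox j i by revert i j; decide, h, mul_one, mul_inv_cancel]
    exact map_one ι
  have k : ∀ i, f (rr i) = ι (ρ i, (ρ i)⁻¹) := fun i => by rw [hr, map_mul, hf, hf, tt, h0]; simp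
  have k2 : ∀ x : L0, f.comp L0.subtype x ∈ ι.range := fun x =>
    (Subgroup.closure_le (ι.range.comap (f.comp L0.subtype))).2 (by rintro _ ⟨i, rfl⟩; exact ⟨_, (k i).symm⟩)
      (cb_gen_L0 gen rr hr ▸ Subgroup.mem_top x)
  refine ⟨(MonoidHom.fst Γ Γ).comp ((MonoidHom.ofInjective hι).symm.toMonoidHom.comp
    ((f.comp L0.subtype).codRestrict _ k2)), fun i => ?_⟩
  have : (MonoidHom.ofInjective hι).symm ⟨_, k2 (rr i)⟩ = (ρ i, (ρ i)⁻¹) :=
    (MulEquiv.symm_apply_eq _).2 (Subtype.ext (k i))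
  exact congrArg Prod.fst this

end Cfsg.Lib.W8
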