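import Mathlib

/-! The Weyl group `W(E₈)` as the group of rational orthogonal matrices permuting the roots. -/

set_option autoImplicit false

namespace Cfsg.Lib.W8

open Matrix
open scoped Pointwise symmDiff

abbrev V := Fin 8 → ℚ
abbrev M8 := Matrix (Fin 8) (Fin 8) ℚ
abbrev P8 := Equiv.Perm (Fin 8)
abbrev F8 := Finset (Fin 8)

/-- the 240 roots (norm 2): `±eᵢ ± eⱼ` and `(±1/2)^8` with an even number of minus signs -/
def IsRoot (x : V) : Prop :=
  (∃ i j : Fin 8, i ≠ j ∧ (x i = 1 ∨ x i = -1) ∧ (x j = 1 ∨ x j = -1) ∧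
      ∀ k, k ≠ i → k ≠ j → x k = 0) ∨
    ((∀ i, x i = 1 / 2 ∨ x i = -1 / 2) ∧ 0 < ∏ i, x i)

/-- orthogonal and permuting the roots -/
def Good (A : M8) : Prop := Aᵀ * A = 1 ∧ ∀ x, IsRoot x ↔ IsRoot (A *ᵥ x)

theorem Good.mul_eq {A : M8} (h : Good A) : A * Aᵀ = 1 := mul_eq_one_comm.1 h.1

/-- the Weyl group -/
def W : Subgroup M8ˣ where
  carrier := {g | Good (g : M8)}
  one_mem' := ⟨by simp, fun x => by simp⟩
  mul_mem' := by
    rintro a b ⟨h1, h2⟩ ⟨h3, h4⟩
    refine ⟨?_, fun x => ?_⟩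
    · rw [Units.val_mul, transpose_mul, Matrix.mul_assoc, ← Matrix.mul_assoc _ (a : M8), h1,
        Matrix.one_mul, h3]
    · rw [Units.val_mul, ← mulVec_mulVec, ← h2, ← h4]
  inv_mem' := by
    rintro a ⟨h1, h2⟩
    have h3 : ((a⁻¹ : M8ˣ) : M8) = (a : M8)ᵀ := by
      rw [← Matrix.one_mul ((a⁻¹ : M8ˣ) : M8), ← h1, Matrix.mul_assoc, Units.mul_inv, Matrix.mul_one]
    refine ⟨?_, fun x => ?_⟩
    · rw [h3, transpose_transpose]; exact mul_eq_one_comm.1 h1
    · rw [h2 (((a⁻¹ : M8ˣ) : M8) *ᵥ x), mulVec_mulVec, Units.mul_inv, one_mulVec]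

/-- the matrix of an element -/
def mat (g : W) : M8 := (g.1 : M8)

theorem good_mat (g : W) : Good (mat g) := g.2
theorem mat_mul (g h : W) : mat (g * h) = mat g * mat h := rfl
theorem mat_one : mat 1 = 1 := rfl
theorem mat_inj {g h : W} (e : mat g = mat h) : g = h := Subtype.ext (Units.ext e)
theorem mat_inv (g : W) : mat g⁻¹ = (mat g)ᵀ := by
  have h1 := (good_mat g).1
  rw [← Matrix.one_mul (mat g⁻¹), ← h1, Matrix.mul_assoc, ← mat_mul, mul_inv_cancel, mat_one,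
    Matrix.mul_one]

open Classical in
/-- the element with a given matrix (junk value `1`) -/
noncomputable def mk (A : M8) : W :=
  if h : Good A then ⟨⟨A, Aᵀ, h.mul_eq, h.1⟩, h⟩ else 1

theorem mat_mk {A : M8} (h : Good A) : mat (mk A) = A := by rw [mk, dif_pos h]; rfl

/-- the trace -/
def tr (g : W) : ℚ := (mat g).trace

/-- the rotation subgroup -/
def L0 : Subgroup W where
  carrier := {g | (mat g).det = 1}
  one_mem' := by show (mat 1).det = 1; rw [mat_one, det_one]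
  mul_mem' := by
    intro a b ha hb
    show (mat (a * b)).det = 1
    rw [mat_mul, det_mul, show (mat a).det = 1 from ha, show (mat b).det = 1 from hb, one_mul]
  inv_mem' := by
    intro a ha
    show (mat a⁻¹).det = 1
    rw [mat_inv, det_transpose]; exact ha

theorem mem_L0 {g : W} : g ∈ L0 ↔ (mat g).det = 1 := Iff.rfl

/-- `-1` -/
noncomputable def z : W := mk (-1)

/-- `-1` on `c`, `1` off `c` -/
def sgn (c : F8) (i : Fin 8) : ℚ := if i ∈ c then -1 else 1

/-- the matrix sending `e i` to `e (σ i)` -/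
def pm (σ : P8) : M8 := Matrix.of fun i j => if i = σ j then 1 else 0

/-- sign change on the coordinates in `c` (meaningful for `c.card` even) -/
noncomputable def sE (c : F8) : W := mk (diagonal (sgn c))

/-- permutation of the coordinates -/
noncomputable def pE (σ : P8) : W := mk (pm σ)

/-- the reflection in a root -/
noncomputable def rf (a : V) : W := mk (1 - vecMulVec a a)

/-- columns: the standard frame of roots `e₀+e₁, e₀-e₁, e₂+e₃, e₂-e₃, …`; symmetric, `Hm * Hm = 2` -/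
def Hm : M8 := Matrix.of fun i j =>
  if i.1 / 2 = j.1 / 2 then (if i.1 % 2 = 1 ∧ j.1 % 2 = 1 then -1 else 1) else 0

/-- the standard frame of roots -/
def fr (j : Fin 8) : V := fun i => Hm i j

/-- the product of the reflections in the frame roots `fr i`, `i ∈ c` -/
noncomputable def sF (c : F8) : W := mk ((1 / 2 : ℚ) • (Hm * diagonal (sgn c) * Hm))

/-- `fr i ↦ fr (σ i)` (meaningful for `σ ∈ AG`) -/
noncomputable def pF (σ : P8) : W := mk ((1 / 2 : ℚ) • (Hm * pm σ * Hm))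

/-- the 14 affine planes of `AG(3,2)`: four distinct points with xor zero -/
def Pl (c : F8) : Prop :=
  c ∈ ([{0,1,2,3}, {4,5,6,7}, {0,1,4,5}, {2,3,6,7}, {0,1,6,7}, {2,3,4,5}, {0,2,4,6}, {1,3,5,7},
    {0,2,5,7}, {1,3,4,6}, {0,3,4,7}, {1,2,5,6}, {0,3,5,6}, {1,2,4,7}] : List F8)

instance : DecidablePred Pl := fun c => by unfold Pl; infer_instance

/-- `AGL(3,2)` -/
def AG : Subgroup P8 where
  carrier := {σ | ∀ c : F8, Pl c ↔ Pl (σ • c)}
  one_mem' := fun c => by rw [one_smul]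
  mul_mem' := fun {a b} ha hb c => by rw [mul_smul, ← ha, ← hb]
  inv_mem' := fun {a} ha c => by rw [ha (a⁻¹ • c), smul_inv_smul]

theorem mem_AG {σ : P8} : σ ∈ AG ↔ ∀ c : F8, Pl c ↔ Pl (σ • c) := Iff.rfl

/-- simple roots: the chain `al 0 - al 1 - … - al 6`, with `al 7` attached to `al 4` -/
def al : Fin 8 → V :=
  ![![1, -1, 0, 0, 0, 0, 0, 0], ![0, 1, -1, 0, 0, 0, 0, 0], ![0, 0, 1, -1, 0, 0, 0, 0],
    ![0, 0, 0, 1, -1, 0, 0, 0], ![0, 0, 0, 0, 1, -1, 0, 0], ![0, 0, 0, 0, 0, 1, -1, 0],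
    ![0, 0, 0, 0, 0, 0, 1, 1], ![-1/2, -1/2, -1/2, -1/2, -1/2, 1/2, 1/2, -1/2]]

/-- the Coxeter matrix of `E₈` for the numbering of `al` -/
def cox (i j : Fin 8) : ℕ :=
  if i = j then 1 else
    if (i.1 + 1 = j.1 ∧ j.1 ≤ 6) ∨ (j.1 + 1 = i.1 ∧ i.1 ≤ 6) ∨ (i.1 = 4 ∧ j.1 = 7) ∨
      (i.1 = 7 ∧ j.1 = 4) then 3 else 2

/-- the simple reflections -/
noncomputable def sr (i : Fin 8) : W := rf (al i)

/-- the root `(1/2, …, 1/2)` -/
def hh : V := fun _ => 1 / 2

end Cfsg.Lib.W8
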