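import Cfsg.Agent.Lib.W8.BasA

/-! Computing with words in the simple reflections; the triality tuples. -/

set_option autoImplicit false

namespace Cfsg.Lib.W8

open Matrix

/-- coordinates with respect to the simple roots -/
structure IdV where
  (a b c d e f g h : ℤ)
  deriving DecidableEq

def IdV.vec (v : IdV) : V :=
  (v.a : ℚ) • al 0 + (v.b : ℚ) • al 1 + (v.c : ℚ) • al 2 + (v.d : ℚ) • al 3 + (v.e : ℚ) • al 4 + (v.f : ℚ) • al 5 +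
    (v.g : ℚ) • al 6 + (v.h : ℚ) • al 7

def idN {α : Type} (n : ℕ) (k : ℕ → α) : α :=
  match n with
  | 0 => k 0
  | m + 1 => k (m + 1)

/-- evaluate the argument first -/
def idI {α : Type} (x : ℤ) (k : ℤ → α) : α :=
  match x with
  | .ofNat n => idN n fun n => k (.ofNat n)
  | .negSucc n => idN n fun n => k (.negSucc n)

theorem idI_eq {α : Type} (x : ℤ) (k : ℤ → α) : idI x k = k x := by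
  rcases x with (_ | n) | (_ | n) <;> rfl

def idStep (n : ℕ) (v : IdV) : IdV :=
  match v with
  | ⟨a, b, c, d, e, f, g, h⟩ =>
    match n with
    | 0 => idI (Int.sub b a) fun x => ⟨x, b, c, d, e, f, g, h⟩
    | 1 => idI (Int.sub (Int.add a c) b) fun x => ⟨a, x, c, d, e, f, g, h⟩
    | 2 => idI (Int.sub (Int.add b d) c) fun x => ⟨a, b, x, d, e, f, g, h⟩
    | 3 => idI (Int.sub (Int.add c e) d) fun x => ⟨a, b, c, x, e, f, g, h⟩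
    | 4 => idI (Int.sub (Int.add (Int.add d f) h) e) fun x => ⟨a, b, c, d, x, f, g, h⟩
    | 5 => idI (Int.sub (Int.add e g) f) fun x => ⟨a, b, c, d, e, x, g, h⟩
    | 6 => idI (Int.sub f g) fun x => ⟨a, b, c, d, e, f, x, h⟩
    | 7 => idI (Int.sub e h) fun x => ⟨a, b, c, d, e, f, g, x⟩
    | _ + 8 => ⟨a, b, c, d, e, f, g, h⟩

noncomputable def idS : ℕ → W
  | 0 => sr 0
  | 1 => sr 1
  | 2 => sr 2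
  | 3 => sr 3
  | 4 => sr 4
  | 5 => sr 5
  | 6 => sr 6
  | 7 => sr 7
  | _ + 8 => 1

theorem id_dot : ∀ i j : Fin 8, al i ⬝ᵥ al j = if i = j then 2 else if cox i j = 3 then -1 else 0 := by
  decide +kernel

theorem id_step (n : ℕ) (v : IdV) : mat (idS n) *ᵥ v.vec = (idStep n v).vec := by
  obtain ⟨a, b, c, d, e, f, g, h⟩ := v
  match n with
  | 0 | 1 | 2 | 3 | 4 | 5 | 6 | 7 =>
    simp only [idS, idStep, idI_eq, sr, rf_mulVec (al_root _), IdV.vec, dotProduct_add, dotProduct_smul, id_dot,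
      show ∀ x y : ℤ, x.sub y = x - y from fun _ _ => rfl]
    simp [cox]
    module
  | _ + 8 => simp [idS, idStep, mat_one]

theorem idS_sq (n : ℕ) : idS n * idS n = 1 := by
  match n with
  | 0 | 1 | 2 | 3 | 4 | 5 | 6 | 7 => exact rf_sq _
  | _ + 8 => exact mul_one _

/-- the product of a word -/
noncomputable def idW (w : List ℕ) : W := (w.map idS).prod

def idAct : List ℕ → IdV → IdV
  | [], v => v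
  | n :: w, v => idStep n (idAct w v)

theorem idW_act (w : List ℕ) (v : IdV) : mat (idW w) *ᵥ v.vec = (idAct w v).vec := by
  induction w with
  | nil => simp [idW, idAct, mat_one]
  | cons n w ih => rw [idAct, ← id_step, ← ih, mulVec_mulVec, ← mat_mul]; rfl

theorem idW_inv (w : List ℕ) : (idW w)⁻¹ = idW w.reverse := by
  rw [idW, List.prod_inv_reverse, List.map_map, idW, List.map_reverse]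
  congr 2
  exact List.map_congr_left fun n _ => inv_eq_of_mul_eq_one_right (idS_sq n)

theorem idW_app (w w' : List ℕ) : idW w * idW w' = idW (w ++ w') := by simp [idW]

def idIt (w : List ℕ) : ℕ → IdV → IdV
  | 0, v => v
  | n + 1, v => match idAct w v with
    | ⟨a, b, c, d, e, f, g, h⟩ => idIt w n ⟨a, b, c, d, e, f, g, h⟩

theorem idW_pow (w : List ℕ) (n : ℕ) (v : IdV) : mat (idW w ^ n) *ᵥ v.vec = (idIt w n v).vec := by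
  induction n generalizing v with
  | zero => simp [idIt, mat_one]
  | succ n ih => rw [pow_succ, mat_mul, ← mulVec_mulVec, idW_act, ih]; rfl

def idB (s : ℤ) : Fin 8 → IdV
  | 0 => ⟨s, 0, 0, 0, 0, 0, 0, 0⟩
  | 1 => ⟨0, s, 0, 0, 0, 0, 0, 0⟩
  | 2 => ⟨0, 0, s, 0, 0, 0, 0, 0⟩
  | 3 => ⟨0, 0, 0, s, 0, 0, 0, 0⟩
  | 4 => ⟨0, 0, 0, 0, s, 0, 0, 0⟩
  | 5 => ⟨0, 0, 0, 0, 0, s, 0, 0⟩
  | 6 => ⟨0, 0, 0, 0, 0, 0, s, 0⟩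
  | 7 => ⟨0, 0, 0, 0, 0, 0, 0, s⟩

theorem idB_vec (s : ℤ) (i : Fin 8) : (idB s i).vec = (s : ℚ) • al i := by
  fin_cases i <;> simp [idB, IdV.vec]

/-- `idW w ^ n` is the scalar `s` -/
def IdC (w : List ℕ) (n : ℕ) (s : ℤ) : Prop := ∀ i, idIt w n (idB 1 i) = idB s i

instance decIdC (w : List ℕ) (n : ℕ) (s : ℤ) : Decidable (IdC w n s) := by unfold IdC; infer_instance

theorem IdC.one {w : List ℕ} {n : ℕ} (h : IdC w n 1) : idW w ^ n = 1 := ext_al fun i => by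
  have := idW_pow w n (idB 1 i)
  rw [h, idB_vec] at this
  simpa [mat_one] using this

theorem IdC.neg {w : List ℕ} {n : ℕ} (h : IdC w n (-1)) : idW w ^ n = z := ext_al fun i => by
  have := idW_pow w n (idB 1 i)
  rw [h, idB_vec, idB_vec] at this
  simpa [mat_z, neg_mulVec] using this

def idT0 : Fin 8 → List ℕ
  | 0 => []
  | 1 => [1, 0, 3, 4, 3, 5, 4, 3, 2, 1, 0, 6, 5, 7, 4, 3, 2, 1, 0, 5, 4, 3, 2, 1, 6, 5, 4, 3, 7, 4, 3, 2, 1, 0, 5, 4, 3, 2, 1, 6, 5, 4, 3, 2, 7, 4, 3, 2, 1, 0, 5, 4, 3, 2, 1, 6, 5, 4, 7, 4, 3, 2, 1, 0, 5, 4, 3, 6, 5, 4, 7, 4, 3, 2, 1, 5, 4, 3, 2, 6]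
  | 2 => [1, 0, 2, 1, 0, 3, 2, 1, 0, 4, 3, 2, 1, 6, 7, 4, 3, 2, 1, 0, 5, 4, 3, 2, 1, 6, 5, 4, 3, 2, 7, 4, 3, 2, 1, 0, 5, 4, 3, 2, 1, 6, 5, 7, 4, 3, 2, 5, 4, 3, 6, 5, 4, 7, 4, 3, 5, 4, 6, 5]
  | 3 => [3, 5, 6, 5, 4, 3, 2, 1, 0, 7, 4, 3, 2, 1, 0, 5, 4, 3, 2, 1, 6, 5, 4, 3, 2, 7, 4, 3, 2, 1, 5, 4, 3, 2, 6, 5, 4, 7, 4, 3, 2, 1, 0, 5, 4, 3, 2, 1, 6, 5, 4, 3, 2, 7, 4, 3, 2, 1, 5, 4]
  | 4 => [2, 3, 2, 1, 0, 4, 3, 2, 1, 0, 5, 4, 3, 2, 1, 0, 6, 5, 4, 3, 2, 1, 7, 4, 3, 2, 1, 0, 5, 4, 3, 2, 1, 6, 5, 4, 3, 2, 7, 4, 3, 2, 1, 0, 5, 4, 3, 2, 1, 7, 4, 3, 2, 5, 4, 3, 6, 5, 4, 7]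
  | 5 => [2, 1, 0, 3, 4, 5, 4, 7, 4, 3, 2, 1, 0, 5, 4, 3, 2, 1, 6, 5, 4, 3, 2, 7, 4, 3, 2, 1, 0, 5, 4, 3, 2, 6, 5, 4, 3, 7, 4, 3, 2, 1, 0, 5, 4, 3, 2, 6, 5, 4, 3, 7, 4, 3, 2, 1, 5, 4, 3, 6]
  | 6 => [1, 0, 2, 1, 3, 2, 4, 3, 2, 5, 4, 3, 2, 6, 5, 4, 3, 2, 7, 4, 3, 2, 1, 0, 5, 4, 3, 2, 1, 6, 5, 4, 3, 2, 7, 4, 3, 2, 1, 0, 5, 4, 3, 2, 1, 6, 5, 7, 4, 3, 2, 5, 4, 3, 6, 5, 4, 7, 4, 3]
  | 7 => [1, 0, 4, 3, 2, 1, 0, 5, 6, 5, 7, 4, 3, 2, 1, 0, 5, 4, 3, 2, 1, 6, 5, 4, 3, 2, 7, 4, 3, 2, 1, 5, 4, 3, 2, 6, 5, 4, 3, 7, 4, 3, 2, 1, 0, 5, 4, 3, 2, 1, 6, 5, 4, 3, 2, 7, 4, 3, 2, 5]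

def idT1 : Fin 8 → List ℕ
  | 0 => []
  | 1 => [0, 1, 2, 3, 2, 1, 4, 3, 2, 1, 6, 5, 4, 3, 2, 7, 4, 3, 2, 1, 0, 5, 4, 3, 2, 1, 6, 5, 4, 3, 2, 7, 4, 3, 2, 1, 0, 5, 4, 3, 2, 1, 6, 5, 4, 7, 4, 3, 2, 1, 0, 5, 4, 3, 2, 1, 6, 5, 4, 3, 2, 7, 4, 3, 2, 1, 5, 4, 3, 2, 6, 5, 4, 3, 7, 4, 3, 2, 1, 5]
  | 2 => [1, 0, 2, 1, 0, 5, 4, 3, 2, 1, 0, 6, 5, 4, 3, 2, 1, 0, 7, 4, 3, 2, 1, 0, 5, 4, 3, 2, 1, 6, 5, 4, 3, 2, 7, 4, 3, 2, 1, 0, 5, 4, 3, 2, 1, 6, 5, 7, 4, 3, 2, 5, 4, 3, 6, 5, 4, 7, 4, 3]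
  | 3 => [0, 3, 2, 4, 5, 4, 3, 2, 1, 6, 7, 4, 3, 2, 1, 0, 5, 4, 3, 2, 1, 6, 5, 4, 3, 2, 7, 4, 3, 2, 1, 5, 4, 3, 2, 6, 5, 4, 7, 4, 3, 2, 1, 0, 5, 4, 3, 2, 1, 6, 5, 4, 3, 7, 4, 3, 2, 1, 5, 6]
  | 4 => [1, 0, 2, 1, 0, 3, 2, 4, 3, 2, 5, 4, 6, 5, 7, 4, 3, 2, 1, 0, 5, 4, 3, 2, 1, 6, 5, 4, 3, 2, 7, 4, 3, 2, 1, 0, 5, 4, 3, 2, 1, 6, 5, 7, 4, 3, 2, 5, 4, 3, 6, 5, 4, 7, 4, 3, 5, 4, 6, 5]
  | 5 => [0, 2, 3, 5, 4, 6, 5, 4, 3, 7, 4, 3, 2, 1, 0, 5, 4, 3, 2, 1, 6, 5, 4, 3, 2, 7, 4, 3, 2, 1, 0, 5, 4, 3, 2, 6, 5, 4, 3, 7, 4, 3, 2, 1, 0, 5, 4, 3, 2, 6, 5, 4, 7, 4, 3, 2, 1, 5, 4, 3]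
  | 6 => [0, 1, 0, 2, 1, 0, 3, 2, 1, 0, 4, 3, 2, 1, 5, 4, 3, 2, 6, 5, 4, 3, 7, 4, 3, 2, 1, 0, 5, 4, 3, 2, 1, 6, 5, 4, 3, 2, 7, 4, 3, 2, 1, 0, 5, 4, 3, 2, 1, 7, 4, 3, 2, 5, 4, 3, 6, 5, 4, 7]
  | 7 => [2, 4, 3, 2, 1, 0, 5, 4, 3, 2, 6, 5, 4, 3, 2, 7, 4, 3, 2, 1, 0, 5, 4, 3, 2, 1, 6, 5, 4, 3, 2, 7, 4, 3, 2, 1, 0, 5, 4, 3, 2, 6, 5, 4, 7, 4, 3, 2, 1, 0, 5, 4, 3, 2, 1, 6, 5, 4, 3, 7]

def idOm (T : Fin 8 → List ℕ) : List ℕ :=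
  (T 0).reverse ++ T 1 ++ ((T 2).reverse ++ T 3) ++ ((T 4).reverse ++ T 5) ++ ((T 6).reverse ++ T 7)

theorem idT0_3 : ∀ i j, cox i j = 3 → IdC ((idT0 i).reverse ++ idT0 j) 3 1 := by decide +kernel
theorem idT0_2 : ∀ i j, cox i j = 2 → IdC ((idT0 i).reverse ++ idT0 j) 2 (-1) := by decide +kernel
theorem idT0_om : IdC (idOm idT0) 15 1 := by decide +kernel
theorem idT1_3 : ∀ i j, cox i j = 3 → IdC ((idT1 i).reverse ++ idT1 j) 3 1 := by decide +kernel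
theorem idT1_2 : ∀ i j, cox i j = 2 → IdC ((idT1 i).reverse ++ idT1 j) 2 (-1) := by decide +kernel
theorem idT1_om : IdC (idOm idT1) 15 (-1) := by decide +kernel
theorem id_cox : IdC [0, 1, 2, 3, 4, 5, 6, 7] 15 (-1) := by decide +kernel

end Cfsg.Lib.W8
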