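import Cfsg.Agent.Lib.W8.Defs
import Cfsg.Prelude.Def_Classical

/-! Data for the reduction modulo 2: a lattice basis that is hyperbolic modulo 2. -/

set_option autoImplicit false
set_option maxRecDepth 100000

namespace Cfsg.Lib.W8

open Matrix

abbrev I8 := Fin 4 ⊕ Fin 4

def rdB : Matrix (Fin 8) I8 ℚ := Matrix.of fun i => Sum.elim
  ((![![0, -1, 1/2, 1],
    ![-1, 0, 1/2, -1],
    ![1, 1, -1/2, 1],
    ![0, 0, 3/2, -1],
    ![0, 0, -1/2, 0],
    ![0, 1, -1/2, 0],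
    ![-1, -1, 1/2, 0],
    ![-1, 0, 1/2, 0]] : Fin 8 → Fin 4 → ℚ) i)
  ((![![0, 1/2, 0, 1],
    ![-1, 1/2, 1, 0],
    ![1, 1/2, 0, 0],
    ![0, 1/2, -1, 0],
    ![1, 1/2, 1, -1],
    ![0, -1/2, 0, 0],
    ![-1, -3/2, 0, 1],
    ![0, -1/2, 1, 1]] : Fin 8 → Fin 4 → ℚ) i)

def rdBi : Matrix I8 (Fin 8) ℚ := Matrix.of (Sum.elim
  (![![-3, 0, 2, -1, -2, -5, 0, 1],
    ![1/2, 1/2, 1/2, 1/2, 1/2, 3/2, 1/2, -1/2],
    ![0, 1, 2, 1, 1, 0, 2, -1],
    ![2, 1, 1, 1, 2, 3, 2, -2]] : Fin 4 → Fin 8 → ℚ)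
  (![![0, -1, -1, 0, 0, 0, -1, 1],
    ![1, 0, -1, 0, 0, 1, -1, 0],
    ![-3/2, 1/2, 3/2, -1/2, -1/2, -5/2, 1/2, 1/2],
    ![-1, -1, -1, -1, -2, -2, -2, 2]] : Fin 4 → Fin 8 → ℚ))

def rdU' : Matrix (Fin 8) I8 ℤ := Matrix.of fun i => Sum.elim
  ((![![0, -1, 0, 1],
    ![-1, -1, 0, 0],
    ![0, 0, -1, 1],
    ![0, 0, 0, 0],
    ![0, 0, -1, 0],
    ![0, 1, -1, 0],
    ![-1, 0, 0, 0],
    ![0, 0, -1, 0]] : Fin 8 → Fin 4 → ℤ) i)
  ((![![0, 0, 0, 1],
    ![-1, 0, 1, 1],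
    ![0, 0, 1, 1],
    ![0, 0, 0, 1],
    ![1, 0, 1, 0],
    ![1, 0, 1, 0],
    ![0, -1, 1, 1],
    ![0, -1, 0, 0]] : Fin 8 → Fin 4 → ℤ) i)

def rdU : Matrix I8 (Fin 8) ℤ := Matrix.of (Sum.elim
  (![![-3, -2, 3, 1, 3, -5, 1, -1],
    ![0, 0, 0, 0, -1, 1, 0, 0],
    ![-1, -1, 1, 0, 1, -2, 1, -1],
    ![1, 0, 0, -1, -1, 1, 0, 0]] : Fin 4 → Fin 8 → ℤ)
  (![![1, 0, -1, 0, 0, 1, 0, 0],
    ![1, 1, -1, 0, -1, 2, -1, 0],
    ![-2, -1, 2, 0, 2, -3, 1, -1],
    ![0, 0, 0, 1, 0, 0, 0, 0]] : Fin 4 → Fin 8 → ℤ))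

def rdPi : M8 := Matrix.of
  ![![1/2, -1/2, -1/2, -1/2, -1/2, -1/2, -1/2, 1/2],
    ![0, 0, -1, -1, -1, -1, -1, 1],
    ![-1/2, -1/2, -1/2, -3/2, -3/2, -3/2, -3/2, 3/2],
    ![-1, -1, -1, -1, -2, -2, -2, 2],
    ![-3/2, -3/2, -3/2, -3/2, -3/2, -5/2, -5/2, 5/2],
    ![-1, -1, -1, -1, -1, -1, -2, 2],
    ![-1/2, -1/2, -1/2, -1/2, -1/2, -1/2, -1/2, 3/2],
    ![-1, -1, -1, -1, -1, -1, -1, 1]]

def rdr (n : I8 → ℤ) : ℤ :=
  n (.inl 0) * n (.inl 0) + (1) * n (.inl 0) * n (.inl 1) + (-1) * n (.inl 0) * n (.inl 2) + (1) * n (.inl 0) * n (.inl 3) + (1) * n (.inl 0) * n (.inr 0) + (1) * n (.inl 0) * n (.inr 1) + (-1) * n (.inl 0) * n (.inr 2) + (-1) * n (.inl 0) * n (.inr 3) + n (.inl 1) * n (.inl 1) + (-1) * n (.inl 1) * n (.inl 2) + (1) * n (.inl 1) * n (.inr 0) + (-1) * n (.inl 1) * n (.inr 3) + n (.inl 2) * n (.inl 2) + (-1) * n (.inl 2) * n (.inl 3) + (-1) * n (.inl 2) * n (.inr 0) + (-1) * n (.inl 2) * n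 (.inr 2) + (1) * n (.inl 2) * n (.inr 3) + n (.inl 3) * n (.inl 3) + (1) * n (.inl 3) * n (.inr 0) + n (.inr 0) * n (.inr 0) + (1) * n (.inr 0) * n (.inr 1) + (-1) * n (.inr 0) * n (.inr 3) + n (.inr 1) * n (.inr 1) + (-1) * n (.inr 1) * n (.inr 3) + n (.inr 2) * n (.inr 2) + n (.inr 3) * n (.inr 3)

def rdT : List ℕ :=
  [195312, 195312, 195312, 195312, 195312, 195312, 195312, 195312, 195312, 195312, 195312, 195312, 195312, 195312, 195312, 195312,
   195312, 352812, 195312, 195572, 195312, 130168, 195312, 285408, 195312, 232812, 195312, 195364, 195312, 260168, 195312, 105408,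
   195312, 195312, 285208, 97668, 195312, 195312, 195372, 70312, 195312, 195312, 105208, 292668, 195312, 195312, 195564, 190312,
   195312, 285468, 255168, 195312, 195312, 195112, 227812, 195312, 195312, 105468, 135168, 195312, 195312, 195304, 357812, 195312,
   195312, 195312, 195312, 195312, 130408, 255468, 285168, 97708, 195312, 195312, 195312, 195312, 260408, 135468, 105168, 292708,
   195312, 195072, 195312, 40312, 97968, 195312, 255208, 195312, 195312, 195264, 195312, 170312, 292968, 195312, 135208, 195312,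
   195312, 195312, 130468, 255408, 195272, 382812, 195312, 195312, 195312, 195312, 260468, 135408, 195064, 202812, 195312, 195312,
   195312, 130208, 97908, 195312, 165312, 195312, 195312, 195612, 195312, 260208, 292908, 195312, 45312, 195312, 195312, 195324,
   195312, 195312, 195312, 195312, 195312, 195312, 195312, 195312, 201564, 194312, 226612, 39072, 99208, 286668, 253968, 128908,
   195312, 164064, 195312, 189112, 195312, 136708, 195312, 291468, 351812, 195312, 196572, 195312, 129168, 195312, 286408, 195312,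
   195312, 195312, 291668, 104208, 195312, 195312, 189312, 196564, 253908, 128968, 195312, 195312, 164072, 351612, 195312, 195312,
   195312, 291408, 261708, 195312, 195312, 201572, 39064, 195312, 286468, 195312, 195312, 254168, 194112, 195312, 195312, 226812,
   195312, 195312, 195312, 195312, 136468, 261408, 291708, 104168, 164112, 351572, 189064, 196812, 195312, 195312, 195312, 195312,
   195312, 201612, 195312, 226564, 103908, 195312, 261668, 195312, 194072, 195312, 39312, 195312, 195312, 98968, 195312, 254208,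
   195312, 195312, 136408, 261468, 201812, 194064, 195312, 195312, 99168, 286708, 195312, 195312, 195312, 195312, 226572, 39112,
   195312, 136668, 103968, 195312, 351564, 195312, 195312, 189072, 129208, 195312, 195312, 98908, 195312, 164312, 196612, 195312]

/-- columns: the simple roots -/
def rdP : M8 := Matrix.of fun i j => al j i

def rdc {m n : Type} (A : Matrix m n ℤ) : Matrix m n ℚ := A.map (Int.castRingHom ℚ)

theorem rd_BBi : rdB * rdBi = 1 := by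
  have h : ∀ (i : Fin 8) (j : Fin 8), ∑ k, (rdB) i k * (rdBi) k j = if i = j then (1 : ℚ) else 0 := by decide +kernel
  ext i j
  rw [Matrix.mul_apply, Matrix.one_apply]
  exact h i j

theorem rd_BiB : rdBi * rdB = 1 := by
  have h : ∀ (i : I8) (j : I8), ∑ k, (rdBi) i k * (rdB) k j = if i = j then (1 : ℚ) else 0 := by decide +kernel
  ext i j
  rw [Matrix.mul_apply, Matrix.one_apply]
  exact h i j

theorem rd_PPi : rdP * rdPi = 1 := by
  have h : ∀ (i : Fin 8) (j : Fin 8), ∑ k, (rdP) i k * (rdPi) k j = if i = j then (1 : ℚ) else 0 := by decide +kernel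
  ext i j
  rw [Matrix.mul_apply, Matrix.one_apply]
  exact h i j

theorem rd_PiP : rdPi * rdP = 1 := by
  have h : ∀ (i : Fin 8) (j : Fin 8), ∑ k, (rdPi) i k * (rdP) k j = if i = j then (1 : ℚ) else 0 := by decide +kernel
  ext i j
  rw [Matrix.mul_apply, Matrix.one_apply]
  exact h i j

theorem rd_PU : rdP * rdc rdU' = rdB := by
  have h : ∀ (i : Fin 8) (j : I8), ∑ k, (rdP) i k * (rdc rdU') k j = ∑ _k : Fin 1, rdB i j := by decide +kernel
  ext i j
  rw [Matrix.mul_apply, h i j, Fin.sum_univ_one]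

theorem rd_BU : rdB * rdc rdU = rdP := by
  have h : ∀ (i : Fin 8) (j : Fin 8), ∑ k, (rdB) i k * (rdc rdU) k j = ∑ _k : Fin 1, rdP i j := by decide +kernel
  ext i j
  rw [Matrix.mul_apply, h i j, Fin.sum_univ_one]

theorem rd_UU : rdU * rdU' = 1 := by
  have h : ∀ (i : I8) (j : I8), ∑ k, (rdU) i k * (rdU') k j = if i = j then (1 : ℤ) else 0 := by decide +kernel
  ext i j
  rw [Matrix.mul_apply, Matrix.one_apply]
  exact h i j

theorem rd_Une : ∀ i j : Fin 8, i ≠ j → ∃ k, (rdU k i : ZMod 2) ≠ (rdU k j : ZMod 2) := by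
  decide +kernel

theorem rd_al : ∀ i j : Fin 8, al i ⬝ᵥ al j = if i = j then 2 else if cox i j = 3 then -1 else 0 := by
  decide +kernel

/-- half the norm -/
def rdq (n : I8 → ℤ) : ℤ := (∑ i : Fin 4, n (.inl i) * n (.inr i)) + 2 * rdr n

theorem rd_norm (n : I8 → ℤ) :
    (rdB *ᵥ fun j => (n j : ℚ)) ⬝ᵥ (rdB *ᵥ fun j => (n j : ℚ)) = 2 * (rdq n : ℚ) := by
  simp only [dotProduct, mulVec, rdB, rdq, rdr, Fin.sum_univ_eight, Fin.sum_univ_four, Fintype.sum_sum_type, of_apply,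
    Sum.elim_inl, Sum.elim_inr]
  simp
  ring

instance : DecidablePred IsRoot := fun x => by unfold IsRoot; infer_instance

theorem rd_int1 : ∀ i j : Fin 8, i ≠ j → ∀ s s' : Bool, ∀ k,
    ((rdBi *ᵥ fun l => if l = i then (if s then 1 else -1) else if l = j then (if s' then 1 else -1) else 0) k).den = 1 := by
  decide +kernel

def rdh (b : Bool) : ℚ := if b then 1 / 2 else -1 / 2

theorem rd_int2 : ∀ b0 b1 b2 b3 b4 b5 b6 b7 : Bool,
    0 < ∏ i, (![rdh b0, rdh b1, rdh b2, rdh b3, rdh b4, rdh b5, rdh b6, rdh b7] : V) i → ∀ k,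
    ((rdBi *ᵥ ![rdh b0, rdh b1, rdh b2, rdh b3, rdh b4, rdh b5, rdh b6, rdh b7]) k).den = 1 := by
  decide +kernel

def rdrt (c : ℕ) : V := fun i => (((rdT.getD c 0 / 5 ^ i.1 % 5 : ℕ) : ℤ) - 2 : ℤ) / 2

def rdcode (a0 a1 a2 a3 a4 a5 a6 a7 : ZMod 2) : ℕ :=
  a0.val + 2 * a1.val + 4 * a2.val + 8 * a3.val + 16 * a4.val + 32 * a5.val + 64 * a6.val + 128 * a7.val

theorem rd_tab : ∀ a0 a1 a2 a3 a4 a5 a6 a7 : ZMod 2, a0 * a4 + a1 * a5 + a2 * a6 + a3 * a7 = 1 →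
    IsRoot (rdrt (rdcode a0 a1 a2 a3 a4 a5 a6 a7)) ∧ ∀ k,
      ((((rdBi *ᵥ rdrt (rdcode a0 a1 a2 a3 a4 a5 a6 a7)) k).num : ℤ) : ZMod 2) =
        Sum.elim ![a0, a1, a2, a3] ![a4, a5, a6, a7] k := by
  decide +kernel

end Cfsg.Lib.W8
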